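import Mathlib
import Cfsg.Agent.Lib.Mon.CovY
import Cfsg.Agent.Lib.Schur.Basic

/-!
# Lifting a `Y₃₃₃`-system to a central extension
-/

set_option autoImplicit false

namespace CfsgLib.Y333

open CfsgLib.Mon.Y CfsgLib.Schur Subgroup

universe u

variable {G : Type u} [Group G] {y : Nd → G} {P Q R : ℕ}

/-- move the letter `s` to the front of a word and delete it -/
def strip : ℕ → Nd → List Nd → Option (List Nd)
  | n + 1, s, t :: w => if t = s then some w else if s.adj t then
      (strip n s w).bind fun v => (strip n t v).map fun v' => t :: s :: v' else (strip n s w).map fun v => t :: v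
  | _, _, _ => none

/-- reduction of a word; the bits of `b` mark the cancellations -/
def red : List Nd → ℕ → Option (List Nd)
  | [], _ => some []
  | s :: w, b => (red w (b / 2)).bind fun v => if b % 2 = 1 then strip v.length s v else some (s :: v)

theorem strip_sound (h : YC P Q R y) (n : ℕ) : ∀ {s : Nd} {w v : List Nd}, strip n s w = some v → s.ok P Q R = true →
    (∀ u ∈ w, u.ok P Q R = true) → (w.map y).prod = y s * (v.map y).prod ∧ ∀ u ∈ v, u.ok P Q R = true := by
  induction n with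
  | zero => exact fun e => by simp [strip] at e
  | succ n ih =>
    rintro s (_ | ⟨t, w⟩) v e hs hw
    · simp [strip] at e
    obtain ⟨ht, hw⟩ := List.forall_mem_cons.1 hw
    rw [strip] at e
    split_ifs at e with e1 e2
    · obtain rfl := Option.some.inj e
      exact ⟨by simp [e1], hw⟩
    · simp only [Option.bind_eq_some_iff, Option.map_eq_some_iff] at e
      obtain ⟨v1, a1, v2, a2, rfl⟩ := e
      obtain ⟨b1, b2⟩ := ih a1 hs hw
      obtain ⟨b3, b4⟩ := ih a2 ht b2
      refine ⟨?_, by simpa [hs, ht] using b4⟩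
      simp only [List.map_cons, List.prod_cons, b1, b3, ← mul_assoc, h.braid s t hs ht e2]
    · simp only [Option.map_eq_some_iff] at e
      obtain ⟨v1, a1, rfl⟩ := e
      obtain ⟨b1, b2⟩ := ih a1 hs hw
      refine ⟨?_, by simpa [ht] using b2⟩
      simp only [List.map_cons, List.prod_cons, b1, ← mul_assoc, (h.comm s t hs ht (by simpa using e2)).eq]

theorem red_sound (h : YC P Q R y) (w : List Nd) : ∀ {b : ℕ} {v : List Nd}, red w b = some v →
    (∀ u ∈ w, u.ok P Q R = true) → (w.map y).prod = (v.map y).prod ∧ ∀ u ∈ v, u.ok P Q R = true := by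
  induction w with
  | nil => exact fun e hw => Option.some.inj e ▸ ⟨rfl, hw⟩
  | cons s w ih =>
    intro b v e hw
    obtain ⟨hs, hw⟩ := List.forall_mem_cons.1 hw
    simp only [red, Option.bind_eq_some_iff] at e
    obtain ⟨v1, a1, a2⟩ := e
    obtain ⟨b1, b2⟩ := ih a1 hw
    split_ifs at a2
    · obtain ⟨b3, b4⟩ := strip_sound h _ a2 hs b2
      exact ⟨by rw [List.map_cons, List.prod_cons, b1, b3, ← mul_assoc, h.sq s hs, one_mul], b4⟩
    · obtain rfl := Option.some.inj a2
      exact ⟨by simp [b1], List.forall_mem_cons.2 ⟨hs, b2⟩⟩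

theorem prod_rep (l : List Nd) (n : ℕ) : ((List.replicate n l).flatten.map y).prod = (l.map y).prod ^ n := by
  induction n with
  | zero => simp
  | succ n ih => rw [List.replicate_succ, List.flatten_cons, List.map_append, List.prod_append, ih, pow_succ']

/-- the spider word -/
def spL : List Nd := [.a, .p 0, .p 1, .a, .q 0, .q 1, .a, .r 0, .r 1]

theorem spw_eq : spw y = (spL.map y).prod := by simp [spw, spL, mul_assoc]

/-- a central value of the spider relator has order dividing three -/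
theorem spider_cube (h : YC 2 2 2 y) (hc : ∀ u : Nd, u.ok 2 2 2 = true → Commute (spw y ^ 10) (y u)) :
    (spw y ^ 10) ^ 3 = 1 := by
  let g : List Nd := [.r 1, .r 0, .q 1, .q 0, .p 1, .p 0]
  have h1 := (red_sound h (List.replicate 3 g).flatten (b := 0x57f) (v := []) (by decide +kernel) (by decide)).1
  have h2 := (red_sound h (List.replicate 3 ((List.replicate 10 spL).flatten ++ g)).flatten
    (b := 0x35800000000000000000000c3f6a7e98f9a9f822e225e0083ffffffffffffffffffffff) (v := []) (by decide +kernel)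
    (by decide +kernel)).1
  rw [prod_rep] at h1 h2
  rw [List.map_append, List.prod_append, prod_rep, ← spw_eq, Commute.mul_pow (Commute.list_prod_right _ _
    (List.forall_mem_map.2 fun u hu => hc u (by revert u; decide))), h1] at h2
  simpa using h2

theorem tw_prod {z : G} (h : ∀ u, Commute z (y u)) (l : List Nd) :
    (l.map fun u => y u * z).prod = (l.map y).prod * z ^ l.length := by
  induction l with
  | nil => simp
  | cons u l ih =>
    rw [List.map_cons, List.prod_cons, ih, (Commute.list_prod_right _ _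
      (List.forall_mem_map.2 fun u _ => h u)).mul_mul_mul_comm, List.length_cons, pow_succ', List.map_cons, List.prod_cons]

theorem tw_pow {z : G} (h : ∀ u, Commute z (y u)) (l : List Nd) (n : ℕ) :
    (l.map fun u => y u * z).prod ^ n = (l.map y).prod ^ n * z ^ (l.length * n) := by
  rw [tw_prod h, Commute.mul_pow (Commute.pow_right (Commute.list_prod_left _ _
    (List.forall_mem_map.2 fun u _ => (h u).symm)) _), pow_mul]

theorem tw_spw {z : G} (h : ∀ u, Commute z (y u)) : spw (fun u => y u * z) ^ 10 = spw y ^ 10 * z ^ 90 := by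
  rw [spw_eq, spw_eq, tw_pow h]; rfl

theorem tw_f1 {z : G} (h : ∀ u, Commute z (y u)) : f1 (fun u => y u * z) = f1 y * z ^ 63 := by
  simpa [f1, mul_assoc] using tw_pow h [.a, .p 0, .q 0, .r 0, .p 1, .q 1, .p 2] 9

/-- the Coxeter relations up to a common square -/
structure TS (y : Nd → G) (c : G) : Prop where
  cen : c ∈ center G
  sq : ∀ u : Nd, u.ok 3 3 3 = true → y u * y u = c
  comm : ∀ u v : Nd, u.ok 3 3 3 = true → v.ok 3 3 3 = true → u.adj v = false → Commute (y u) (y v)
  braid : ∀ u v : Nd, u.ok 3 3 3 = true → v.ok 3 3 3 = true → u.adj v = true → y u * y v * y u = y v * y u * y v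

theorem exists_sqrt {c : G} (hc : c ∈ center G) : ∃ (E : Type u) (_ : Group E) (ι : G →* E) (γ : E),
    Function.Injective ι ∧ (∀ x, Commute γ (ι x)) ∧ ι c * γ ^ 2 = 1 := by
  let a : G × Multiplicative ℤ := (c, .ofAdd 2)
  have h1 : zpowers a ≤ center _ := zpowers_le.2 (mem_center_iff.2 fun x => Prod.ext (mem_center_iff.1 hc _) (mul_comm _ _))
  have : (zpowers a).Normal := ⟨fun x hx g => by simpa [mem_center_iff.1 (h1 hx) g] using hx⟩
  let ρ := QuotientGroup.mk' (zpowers a)
  refine ⟨_, inferInstance, ρ.comp (MonoidHom.inl _ _), ρ (1, .ofAdd 1), (injective_iff_map_eq_one _).2 fun x hx => ?_,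
    fun x => Commute.map (Prod.ext (by simp) (by simp)) ρ, ?_⟩
  · obtain ⟨k, hk⟩ := (QuotientGroup.eq_one_iff _).1 hx
    obtain rfl : k = 0 := by simpa [a, ← ofAdd_zsmul] using congrArg Prod.snd hk
    simpa using (congrArg Prod.fst hk).symm
  · rw [MonoidHom.comp_apply, ← map_pow, ← map_mul]
    exact (QuotientGroup.eq_one_iff _).2 (by convert mem_zpowers a using 1; exact Prod.ext (by simp [a]) rfl)

namespace TS
variable {c : G} (h : TS y c)
include h

theorem yc {E : Type*} [Group E] {ι : G →* E} {γ : E} (h1 : ∀ x, Commute γ (ι x)) (h2 : ι c * γ ^ 2 = 1) :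
    YC 3 3 3 fun u => ι (y u) * γ := by
  refine ⟨fun u hu => ?_, fun u v hu hv e => ?_, fun u v hu hv e => ?_⟩
  · rw [(h1 _).mul_mul_mul_comm, ← map_mul, h.sq u hu, ← pow_two, h2]
  · exact (((h.comm u v hu hv e).map ι).mul_right (h1 _).symm).mul_left ((h1 _).mul_right (Commute.refl γ))
  · simp only [(h1 _).mul_mul_mul_comm, ← map_mul, ((h1 _).mul_left (h1 _)).mul_mul_mul_comm, h.braid u v hu hv e]

theorem cube (hs : spw y ^ 10 ∈ center G) : (spw y ^ 10 * c⁻¹ ^ 45) ^ 3 = 1 := by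
  obtain ⟨E, _, ι, γ, h0, h1, h2⟩ := exists_sqrt h.cen
  have e : spw (fun u => ι (y u) * γ) ^ 10 = ι (spw y ^ 10 * c⁻¹ ^ 45) := by
    rw [tw_spw fun u => h1 _, map_mul, map_pow ι c⁻¹, map_inv, inv_eq_of_mul_eq_one_right h2, ← pow_mul]
    simp only [spw, map_pow, map_mul]
  have := spider_cube ((h.yc h1 h2).mono (by norm_num) (by norm_num) (by norm_num)) fun u _ => e ▸
    (Commute.map (mem_center_iff.1 (mul_mem hs (pow_mem (inv_mem h.cen) _)) _).symm ι).mul_right (h1 _).symm
  rwa [e, ← map_pow, map_eq_one_iff ι h0] at this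

theorem fsq (hs : spw y ^ 10 = c ^ 45) : f1 y * f1 y = c ^ 63 := by
  obtain ⟨E, _, ι, γ, h0, h1, h2⟩ := exists_sqrt h.cen
  have k : ∀ n, ι (c ^ n) * (γ ^ 2) ^ n = 1 := fun n => by
    rw [map_pow, ← ((h1 c).pow_left 2).symm.mul_pow, h2, one_pow]
  have := YS.f1_sq ⟨h.yc h1 h2, by norm_num, by
    rw [tw_spw fun u => h1 _, ← k 45, ← hs, ← pow_mul]; simp only [spw, map_pow, map_mul]⟩ le_rfl
  rw [tw_f1 fun u => h1 _, ← map_f1, ((h1 _).pow_left 63).mul_mul_mul_comm, ← map_mul, ← k 63, ← pow_add, ← pow_mul,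
    mul_left_inj] at this
  exact h0 this

theorem map {H : Type u} [Group H] {ρ : G →* H} (hρ : Function.Surjective ρ) : TS (fun u => ρ (y u)) (ρ c) :=
  ⟨mem_center_iff.2 fun x => by obtain ⟨x, rfl⟩ := hρ x; rw [← map_mul, mem_center_iff.1 h.cen, map_mul],
    fun u hu => by rw [← map_mul, h.sq u hu], fun u v hu hv e => (h.comm u v hu hv e).map ρ,
    fun u v hu hv e => by simpa only [map_mul] using congrArg ρ (h.braid u v hu hv e)⟩

end TS

/-- the neighbour towards the centre -/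
def par : Nd → Nd
  | .p (i + 1) => .p i
  | .q (i + 1) => .q i
  | .r (i + 1) => .r i
  | _ => .a

theorem par_ind {p : Nd → Prop} (ha : p .a) (h : ∀ u : Nd, u ≠ .a → p (par u) → p u) (u : Nd) : p u := by
  rcases u with _ | i | i | i
  · exact ha
  all_goals
    induction i with
    | zero => exact h _ (by simp) ha
    | succ i ih => exact h _ (by simp) ih

theorem par_facts : ∀ u ∈ Nd.list 3 3 3, (u ≠ .a → (par u).adj u = true ∧ (par u).ok 3 3 3 = true) ∧
    (u.ok 3 3 1 = true → (par u).ok 3 3 1 = true ∧ (Nd.r 2).adj u = false) ∧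
    ∀ v ∈ Nd.list 3 3 3, u.adj v = true → u ≠ .a ∧ v = par u ∨ v ≠ .a ∧ u = par v := by decide

/-- the stage at which a commutation is obtained -/
def stage (w v : Nd) : ℕ := 0x333333310044444401230057654123000765412360066701237650054123765000412366760001205505500 >>>
  (4 * (10 * (Nd.list 3 3 3).idxOf w + (Nd.list 3 3 3).idxOf v)) % 16

theorem stage_facts : ∀ w ∈ Nd.list 3 3 3, ∀ v ∈ Nd.list 3 3 3, w.adj v = false → w = v ∨ w = .r 2 ∧ v.ok 3 3 1 = true ∨
    stage v w < stage w v ∨ ∃ u ∈ Nd.list 3 3 3, u.adj v = true ∧ w.adj u = false ∧ stage w u < stage w v := by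
  decide +kernel

variable {T : Type*} [Group T] {σ : G →* T} {n : Nd → T}

theorem exists_ts (hσ : IsCentralExt σ) (h : YC 3 3 3 n) (h1 : f1 n = 1) :
    ∃ (y : Nd → G) (c : G), (∀ u, σ (y u) = n u) ∧ σ c = 1 ∧ TS y c := by
  have : ∀ (x : G) (z : T), ∃ w, σ w = z ∧ (σ x * z * σ x = z * σ x * z → x * w * x = w * x * w) := fun x z => by
    obtain ⟨w, rfl⟩ := hσ.surj z
    by_cases e : σ x * σ w * σ x = σ w * σ x * σ w
    · have k : σ (x * w * x * (w * x * w)⁻¹) = 1 := by simp only [map_mul, map_inv, e, mul_inv_cancel]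
      generalize ha : x * w * x * (w * x * w)⁻¹ = a at k
      have c := fun g => (show Commute g a from hσ.comm k g)
      refine ⟨w * a, by rw [map_mul, k, mul_one], fun _ => ?_⟩
      rw [← mul_assoc, mul_assoc _ a, ← (c x).eq, ← mul_assoc, mul_inv_eq_iff_eq_mul.1 ha, ← (c _).eq, mul_assoc w a,
        ← (c x).eq]
      simp only [mul_assoc, (c w).eq]
    · exact ⟨w, rfl, fun e' => absurd e' e⟩
  choose L l1 l2 using this
  obtain ⟨a, ha⟩ := hσ.surj (n .a)
  let arm : (ℕ → Nd) → ℕ → G := fun f => Nat.rec (L a (n (f 0))) fun i x => L x (n (f (i + 1)))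
  let y : Nd → G := fun u => Nd.rec a (arm .p) (arm .q) (arm .r) u
  have e : ∀ u : Nd, u ≠ .a → y u = L (y (par u)) (n u) := by
    rintro (_ | (_ | _) | (_ | _) | (_ | _)) hu <;> first | rfl | exact absurd rfl hu
  have m : ∀ u, σ (y u) = n u := fun u => by
    by_cases hu : u = .a
    exacts [hu ▸ ha, e u hu ▸ l1 _ _]
  have F := fun u (hu : u.ok 3 3 3 = true) => par_facts u (Nd.mem_list.2 hu)
  have b0 : ∀ u : Nd, u.ok 3 3 3 = true → u ≠ .a → y (par u) * y u * y (par u) = y u * y (par u) * y u := fun u hu k => by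
    rw [e u k]
    exact l2 _ _ (by rw [m]; exact h.braid _ _ ((F u hu).1 k).2 hu ((F u hu).1 k).1)
  have b : ∀ u v : Nd, u.ok 3 3 3 = true → v.ok 3 3 3 = true → u.adj v = true → y u * y v * y u = y v * y u * y v :=
    fun u v hu hv k => by
      rcases (F u hu).2.2 v (Nd.mem_list.2 hv) k with ⟨k1, rfl⟩ | ⟨k1, rfl⟩
      exacts [(b0 u hu k1).symm, b0 v hv k1]
  have c1 : σ (a * a) = 1 := by rw [map_mul, ha, h.sq _ rfl]
  have s : ∀ u : Nd, u.ok 3 3 3 = true → y u * y u = a * a := par_ind (fun _ => rfl) fun u k ih hu => by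
    have := b0 u hu k
    have k2 : y u = y (par u) * y u * y (par u) * (y (par u) * y u)⁻¹ := by
      rw [eq_mul_inv_iff_mul_eq, ← mul_assoc, this]
    rw [k2, conj_mul, ih ((F u hu).1 k).2, hσ.comm c1, mul_inv_cancel_right]
  obtain ⟨D, d0⟩ : ∃ D : Nd → Nd → G, ∀ w u, y w * y u * (y w)⁻¹ = y u * D w u :=
    ⟨fun w u => _, fun w u => (mul_inv_cancel_left _ _).symm⟩
  have d1 : ∀ w u : Nd, w.ok 3 3 3 = true → u.ok 3 3 3 = true → w.adj u = false → ∀ g, Commute g (D w u) :=
    fun w u hw hu k => hσ.comm (by simpa [m, (h.comm w u hw hu k).eq] using congrArg σ (d0 w u).symm)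
  have d2 : ∀ w u v : Nd, w.ok 3 3 3 = true → u.ok 3 3 3 = true → v.ok 3 3 3 = true → w.adj u = false → w.adj v = false →
      u.adj v = true → D w u = D w v := fun w u v hw hu hv k1 k2 k3 => by
    have := congrArg (fun x => y w * x * (y w)⁻¹) (b u v hu hv k3)
    have c := d1 w u hw hu k1
    have c' := d1 w v hw hv k2
    simp only [← conj_mul, d0, (c _).symm.mul_mul_mul_comm, (c' _).symm.mul_mul_mul_comm,
      ((c _).symm.mul_left (c' _).symm).mul_mul_mul_comm, ((c' _).symm.mul_left (c _).symm).mul_mul_mul_comm]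
      at this
    rwa [b u v hu hv k3, mul_right_inj, (c' (D w u)).eq, mul_right_inj] at this
  have d3 : ∀ u : Nd, u.ok 3 3 1 = true → D (.r 2) u = D (.r 2) .a := par_ind (fun _ => rfl) fun u k ih hu => by
    have hu' := Nd.ok_mono le_rfl le_rfl (show 1 ≤ 3 by norm_num) hu
    obtain ⟨⟨k1, k2⟩, k3, k4⟩ := And.intro ((F u hu').1 k) ((F u hu').2.1 hu)
    exact (d2 _ _ _ rfl k2 hu' ((F _ k2).2.1 k3).2 k4 k1).symm.trans (ih k3)
  have d4 : D (.r 2) .a = 1 := by
    have c := d1 (.r 2) .a rfl rfl rfl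
    have k1 : f1 y * D (.r 2) .a ^ 63 = f1 y := by
      rw [← tw_f1 fun u => (c _).symm, ← f1_congr (y := fun u => (MulAut.conj (y (.r 2))).toMonoidHom (y u)) fun u hu =>
        (d0 (.r 2) u).trans (congrArg _ (d3 u (Nd.ok_mono le_rfl (by norm_num) le_rfl hu))),
        ← map_f1 (MulAut.conj (y (.r 2))).toMonoidHom]
      exact mul_inv_eq_iff_eq_mul.2 (hσ.comm ((map_f1 σ y).trans ((congrArg f1 (funext m)).trans h1)) _)
    have k2 : a * a * (D (.r 2) .a * D (.r 2) .a) = a * a := by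
      rw [← (c a).symm.mul_mul_mul_comm, ← show _ = a * _ from d0 (.r 2) .a, conj_mul]
      exact mul_inv_eq_iff_eq_mul.2 (hσ.comm c1 _)
    rw [mul_eq_left] at k1 k2
    rwa [pow_succ, show 62 = 2 * 31 from rfl, pow_mul, sq, k2, one_pow, one_mul] at k1
  have d5 : ∀ w u, D w u = 1 ↔ Commute (y w) (y u) := fun w u => by
    rw [← mul_eq_left (a := y u), ← d0, mul_inv_eq_iff_eq_mul]; rfl
  refine ⟨y, a * a, m, c1, hσ.central c1, s, fun w v hw hv k => ?_, b⟩
  induction hk : stage w v using Nat.strong_induction_on generalizing w v with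
  | _ j ih =>
    rcases stage_facts w (Nd.mem_list.2 hw) v (Nd.mem_list.2 hv) k with rfl | ⟨rfl, k1⟩ | k1 | ⟨u, hu, k1, k2, k3⟩
    · exact Commute.refl _
    · exact (d5 _ _).1 ((d3 v k1).trans d4)
    · exact (ih _ (hk ▸ k1) v w hv hw (Nd.adj_symm w v ▸ k) rfl).symm
    · rw [Nd.mem_list] at hu
      exact (d5 _ _).1 ((d2 w u v hw hu hv k2 k k1).symm.trans ((d5 _ _).2 (ih _ (hk ▸ k3) w u hw hu k2 rfl)))

/-- lifting to a stem extension: the relations hold modulo an element of order dividing three -/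
theorem exists_lift (hσ : Cfsg.IsStemExtension σ) (h : YS 3 3 3 n) (h1 : f1 n = 1) (hg : gen 3 3 3 n = ⊤) :
    ∃ (y : Nd → G) (s : G), (∀ u, σ (y u) = n u) ∧ gen 3 3 3 y = ⊤ ∧ σ s = 1 ∧ s ^ 3 = 1 ∧
      ∀ (H : Type u) [Group H] (ρ : G →* H), Function.Surjective ρ → ρ s = 1 →
        YS 3 3 3 (fun u => ρ (y u)) ∧ f1 (fun u => ρ (y u)) = 1 := by
  have hc := centralExt_of_stem hσ
  obtain ⟨x, c, m, c1, t⟩ := exists_ts hc h.toYC h1
  have m1 : σ (f1 x) = 1 := (map_f1 σ x).trans ((congrArg f1 (funext m)).trans h1)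
  have m2 : σ (spw x ^ 10) = 1 := by simpa only [spw, map_pow, map_mul, m] using h.sp
  have m3 : σ (c ^ 31 * (f1 x)⁻¹) = 1 := by simp [c1, m1]
  generalize ha : c ^ 31 * (f1 x)⁻¹ = a at m3
  have m4 : ∀ u, σ (x u * a) = n u := fun u => by rw [map_mul, m3, m, mul_one]
  refine ⟨fun u => x u * a, spw x ^ 10 * c⁻¹ ^ 45, m4, ?_, by simp [c1, m2], t.cube (hσ.2.1 m2), fun H _ ρ hρ hs => ?_⟩
  · rw [← range_subtype (gen 3 3 3 _), MonoidHom.range_eq_top]
    refine surjective_of_lift (MonoidHom.range_eq_top.1 ?_) hσ _ rfl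
    rw [← MonoidHom.map_range, range_subtype, map_gen, funext m4, hg]
  have t' := t.map hρ
  have ca : ∀ g, Commute (ρ a) g := fun g => by
    obtain ⟨g, rfl⟩ := hρ g
    exact Commute.map (hc.comm m3 g).symm ρ
  have e1 : spw (fun u => ρ (x u)) ^ 10 = ρ c ^ 45 := by
    rw [map_mul, map_pow ρ c⁻¹, map_inv, inv_pow, mul_inv_eq_one] at hs
    simpa only [spw, map_pow, map_mul] using hs
  have e2 := t'.fsq e1
  have e3 : f1 (fun u => ρ (x u)) * ρ a = ρ c ^ 31 := by
    rw [← map_f1, (ca _).symm.eq, ← map_mul, ← ha, inv_mul_cancel_right, map_pow]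
  have e4 : ρ c * ρ a ^ 2 = 1 := by
    have := congrArg₂ (· * ·) e3 e3
    rw [(ca _).mul_mul_mul_comm, e2, ← pow_add, pow_succ, mul_assoc, mul_eq_left, ← sq] at this
    exact this
  have k : ∀ j, ρ c ^ j * (ρ a ^ 2) ^ j = 1 := fun j => by
    rw [← ((ca _).pow_left 2).symm.mul_pow, e4, one_pow]
  simp only [map_mul]
  refine ⟨⟨t'.yc (ι := MonoidHom.id H) ca e4, by norm_num, ?_⟩, ?_⟩
  · rw [tw_spw fun u => ca _, e1, ← k 45, ← pow_mul]
  · rw [tw_f1 fun u => ca _, pow_succ', ← mul_assoc, e3, ← k 31, ← pow_mul]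

end CfsgLib.Y333
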