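import Mathlib
import Cfsg.Agent.Lib.Y333.Lift
import Cfsg.Agent.Lib.MonS.Four
import Cfsg.Agent.Lib.MultC.Cover2

/-!
# Stem extensions of the universal group `Y₃₃₃` with trivial `f1, f2, f3`
-/

set_option autoImplicit false

namespace CfsgLib.Y333

open CfsgLib.Mon CfsgLib.Mon.Y CfsgLib.Schur CfsgLib.MultC Subgroup

universe u

variable {G : Type u} [Group G] {T : Type*} [Group T] {n : Nd → T} {σ : G →* T} {y : Nd → G}

/-- generating nodes with the universal property -/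
structure UN.{v, w} {T : Type w} [Group T] (n : Nd → T) : Prop where
  ys : YS 3 3 3 n
  f1 : f1 n = 1
  f2 : f2 n = 1
  f3 : f3 n = 1
  top : gen 3 3 3 n = ⊤
  univ : ∀ (H : Type v) [Group H] (y : Nd → H), YS 3 3 3 y → Y.f1 y = 1 → Y.f2 y = 1 → Y.f3 y = 1 →
    ∃ φ : T →* H, ∀ u : Nd, u.ok 3 3 3 = true → φ (n u) = y u

theorem f3_s12 (h : YS 3 3 3 y) : f3 (fun u => y u.s12) = f3 y := (h.rot.f1_eq₂ le_rfl).symm

theorem f2_rot (h : YS 3 3 3 y) : f2 (fun u => y u.rot) = f1 y := (h.f1_eq₂ le_rfl).symm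

theorem f3_rot (h : YS 3 3 3 y) : f3 (fun u => y u.rot) = f2 y := (h.s12.f1_eq₂ le_rfl).symm

theorem gen_comp {s s' : Nd → Nd} (h : ∀ u, s (s' u) = u) (h' : ∀ u : Nd, u.ok 3 3 3 = true → (s' u).ok 3 3 3 = true)
    (hg : gen 3 3 3 y = ⊤) : gen 3 3 3 (fun u => y (s u)) = ⊤ :=
  eq_top_iff.2 (hg.ge.trans (gen_le.2 fun u hu => h u ▸ mem_gen (y := fun u => y (s u)) (h' u hu)))

theorem gen_s12 (hg : gen 3 3 3 y = ⊤) : gen 3 3 3 (fun u => y u.s12) = ⊤ :=
  gen_comp Nd.s12_s12 (fun u hu => (u.ok_s12 3 3 3).trans hu) hg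

theorem gen_rot (hg : gen 3 3 3 y = ⊤) : gen 3 3 3 (fun u => y u.rot) = ⊤ :=
  gen_comp (s' := fun u => u.rot.rot) Nd.rot_rot_rot (fun u hu => (Nd.ok_rot 3 3 3 _).trans ((u.ok_rot 3 3 3).trans hu)) hg

theorem normal_of_central {N : Subgroup G} (h : N ≤ center G) : N.Normal :=
  ⟨fun x hx g => by simpa [mem_center_iff.1 (h hx) g] using hx⟩

namespace UN

theorem rot (U : UN.{u} n) : UN.{u} fun u => n u.rot := by
  refine ⟨U.ys.rot, U.f3, (f2_rot U.ys).trans U.f1, (f3_rot U.ys).trans U.f2, gen_rot U.top, fun H _ y h h1 h2 h3 => ?_⟩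
  obtain ⟨φ, hφ⟩ := U.univ H _ h.rot.rot ((f3_rot h).trans h2) ((f2_rot h.rot).trans h3)
    ((f3_rot h.rot).trans ((f2_rot h).trans h1))
  exact ⟨φ, fun u hu => (hφ _ ((u.ok_rot 3 3 3).trans hu)).trans (congrArg y u.rot_rot_rot)⟩

theorem ker_le (U : UN.{u} n) (e : ∀ u : Nd, u.ok 3 3 3 = true → σ (y u) = n u) (hg : gen 3 3 3 y = ⊤) {N : Subgroup G}
    [N.Normal] (h : YS 3 3 3 fun u => QuotientGroup.mk' N (y u)) (h1 : Y.f1 y ∈ N) (h2 : Y.f2 y ∈ N) (h3 : Y.f3 y ∈ N) :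
    σ.ker ≤ N := fun x hx => by
  obtain ⟨φ, hφ⟩ := U.univ _ _ h ((map_f1 _ y).symm.trans ((QuotientGroup.eq_one_iff _).2 h1))
    ((map_f2 _ y).symm.trans ((QuotientGroup.eq_one_iff _).2 h2))
    ((map_f3 _ y).symm.trans ((QuotientGroup.eq_one_iff _).2 h3))
  have : φ.comp σ = QuotientGroup.mk' N := hom_ext hg fun u hu => (congrArg φ (e u hu)).trans (hφ u hu)
  exact (QuotientGroup.eq_one_iff _).1 ((DFunLike.congr_fun this x).symm.trans ((congrArg φ hx).trans φ.map_one))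

theorem upper (U : UN.{u} n) (hσ : Cfsg.IsStemExtension σ) :
    ∃ π : Multiplicative (ZMod 3 × ZMod 2 × ZMod 2) →* σ.ker, Function.Surjective π := by
  obtain ⟨y, s, m, hg, s1, s3, h⟩ := exists_lift hσ U.ys U.f1 U.top
  have m2 : σ (Y.f2 y) = 1 := (map_f2 σ y).trans ((congrArg Y.f2 (funext m)).trans U.f2)
  have m3 : σ (Y.f3 y) = 1 := (map_f3 σ y).trans ((congrArg Y.f3 (funext m)).trans U.f3)
  have := normal_of_central ((zpowers_le.2 s1).trans hσ.2.1)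
  obtain ⟨k, -⟩ := h _ (QuotientGroup.mk' (zpowers s)) (QuotientGroup.mk'_surjective _)
    ((QuotientGroup.eq_one_iff _).2 (mem_zpowers s))
  have q : ∀ g : G, QuotientGroup.mk' (zpowers s) g * QuotientGroup.mk' _ g = 1 →
      (g ^ 3) ^ 2 = 1 ∧ ∀ K : Subgroup G, s ∈ K → g ^ 3 ∈ K → g ∈ K := fun g hg => by
    obtain ⟨j, hj⟩ := (QuotientGroup.eq_one_iff (g * g)).1 hg
    refine ⟨by rw [← pow_mul, pow_mul', sq, ← hj, ← zpow_natCast, ← zpow_mul, mul_comm, zpow_mul, zpow_natCast, s3,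
      one_zpow], fun K hs h3 => ?_⟩
    simpa [pow_succ] using mul_mem h3 (inv_mem (show g * g ∈ K from hj ▸ zpow_mem hs j))
  obtain ⟨a2, b2⟩ := q (Y.f2 y) (by rw [map_f2]; exact k.f2_sq le_rfl)
  obtain ⟨a3, b3⟩ := q (Y.f3 y) (by rw [map_f3]; exact k.f3_sq le_rfl)
  refine exists_surj_three hσ.2.1 s1 (pow_mem m2 3) (pow_mem m3 3) s3 a2 a3 fun K k1 k2 k3 => ?_
  have := normal_of_central ((inf_le_right : K ⊓ σ.ker ≤ _).trans hσ.2.1)
  obtain ⟨k4, k5⟩ := h _ (QuotientGroup.mk' (K ⊓ σ.ker)) (QuotientGroup.mk'_surjective _)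
    ((QuotientGroup.eq_one_iff _).2 ⟨k1, s1⟩)
  exact (U.ker_le (fun u _ => m u) hg k4 ((QuotientGroup.eq_one_iff _).1 ((map_f1 _ y).trans k5)) ⟨b2 K k1 k2, m2⟩
    ⟨b3 K k1 k3, m3⟩).trans inf_le_left

/-- nodes in a non-split double cover -/
theorem double (U : UN.{u} n) (hσ : Cfsg.IsStemExtension σ) (h2 : Nat.card σ.ker = 2) : ∃ (y : Nd → G) (n' : Nd → T),
    UN.{u} n' ∧ (∀ u, σ (y u) = n' u) ∧ YS 3 3 3 y ∧ Y.f1 y ≠ 1 ∧ Y.f2 y = 1 ∧ Y.f3 y = 1 ∧ gen 3 3 3 y = ⊤ := by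
  obtain ⟨y, s, m, hg, s1, s3, h⟩ := exists_lift hσ U.ys U.f1 U.top
  obtain ⟨⟨z, hz⟩, z1, z2⟩ := (Nat.card_eq_two_iff' 1).1 h2
  have c : ∀ x, σ x = 1 → x = 1 ∨ x = z := fun x hx => or_iff_not_imp_left.2 fun e =>
    congrArg Subtype.val (z2 ⟨x, hx⟩ fun e' => e (congrArg Subtype.val e'))
  have z0 : z ≠ 1 := fun e => z1 (Subtype.ext e)
  have zz : z * z = 1 := (c _ (mul_mem hz hz)).resolve_right (by simpa using z0)
  have cz : ∀ x, Commute z x := fun x => (mem_center_iff.1 (hσ.2.1 hz) x).symm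
  obtain ⟨k, k1⟩ := h G (MonoidHom.id G) Function.surjective_id ((c s s1).resolve_right fun e => z0 (by
    rwa [e, pow_succ, sq, zz, one_mul] at s3))
  change YS 3 3 3 y at k
  change Y.f1 y = 1 at k1
  rcases c _ ((map_f2 σ y).trans ((congrArg Y.f2 (funext m)).trans U.f2)) with k2 | k2 <;>
    rcases c _ ((map_f3 σ y).trans ((congrArg Y.f3 (funext m)).trans U.f3)) with k3 | k3
  · exact absurd (U.ker_le (N := ⊥) (fun u _ => m u) hg (k.map _) k1 k2 k3 hz) z0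
  · exact ⟨_, _, U.rot, fun u => m _, k.rot, fun e => z0 (k3.symm.trans e), (f2_rot k).trans k1, (f3_rot k).trans k2,
      gen_rot hg⟩
  · exact ⟨_, _, U.rot.rot, fun u => m _, k.rot.rot, fun e => z0 (k2.symm.trans ((f3_rot k).symm.trans
      ((f1_rot fun u => y u.rot).symm.trans e))),
      (f2_rot k.rot).trans ((f1_rot y).trans k3), (f3_rot k.rot).trans ((f2_rot k).trans k1),
      gen_rot (y := fun u => y u.rot) (gen_rot hg)⟩
  have t : ∀ x : G, x * z ^ 63 = x * z := fun x => by rw [pow_succ, show 62 = 2 * 31 from rfl, pow_mul, sq, zz]; simp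
  have m' : ∀ u, σ (y u * z) = n u := fun u => by rw [map_mul, hz, m, mul_one]
  refine ⟨fun u => y u * z, n, U, m', ⟨k.toYC.twist zz fun u _ => cz _, k.two, ?_⟩, ?_, ?_, ?_, ?_⟩
  · rw [tw_spw fun u => cz _, k.sp, show 90 = 2 * 45 from rfl, pow_mul, sq, zz]; simp
  · rwa [tw_f1 fun u => cz _, t, k1, one_mul]
  · exact (tw_f1 (y := fun u => y u.s12) fun u => cz _).trans (by rw [t, f1_s12, k2, zz])
  · exact (tw_f1 (y := fun u => y u.rot) fun u => cz _).trans (by rw [t, f1_rot, k3, zz])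
  · rw [← range_subtype (gen 3 3 3 _), MonoidHom.range_eq_top]
    refine surjective_of_lift (MonoidHom.range_eq_top.1 ?_) hσ _ rfl
    rw [← MonoidHom.map_range, range_subtype, map_gen, funext m', U.top]

/-- the universal property of the double cover -/
theorem univ2 (U : UN.{u} n) (m : ∀ u, σ (y u) = n u) (h : YS 3 3 3 y) (h1 : Y.f1 y ≠ 1) (h2 : Y.f2 y = 1)
    (h3 : Y.f3 y = 1) (hg : gen 3 3 3 y = ⊤) {H : Type u} [Group H] {x : Nd → H} (k : YS 3 3 3 x) (k2 : Y.f2 x = 1)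
    (k3 : Y.f3 x = 1) : ∃ φ : G →* H, ∀ u : Nd, u.ok 3 3 3 = true → φ (y u) = x u := by
  let w : Nd → G × H := fun u => (y u, x u)
  have hw : YS 3 3 3 w := ⟨⟨fun u hu => Prod.ext (h.sq u hu) (k.sq u hu), fun u v hu hv e => Prod.ext (h.comm u v hu hv e)
    (k.comm u v hu hv e), fun u v hu hv e => Prod.ext (h.braid u v hu hv e) (k.braid u v hu hv e)⟩, h.two,
    Prod.ext h.sp k.sp⟩
  obtain ⟨w', e⟩ := Cov.exists_res (le_refl (gen 3 3 3 w))
  have hi := (gen 3 3 3 w).subtype_injective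
  have hw' := Cov.ys_of_inj hi hw e
  have g' := Cov.gen_res_top e
  have := normal_of_central (zpowers_le.2 (show Y.f1 w' ∈ center _ from mem_center_iff.2 fun g =>
    (Cov.comm_f1 hw' le_rfl le_rfl le_rfl (g'.ge (mem_top g))).symm))
  let s := (MonoidHom.fst G H).comp (gen 3 3 3 w).subtype
  have e1 : s (Y.f1 w') = Y.f1 y := (map_f1 s w').trans (f1_congr fun u hu =>
    congrArg Prod.fst (e u (Nd.ok_mono le_rfl (by norm_num) (by norm_num) hu)))
  have e2 : Y.f2 w' = 1 := hi ((map_f2 _ w').trans ((f2_congr fun u hu =>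
    e u (Nd.ok_mono (by norm_num) le_rfl (by norm_num) hu)).trans (Prod.ext h2 k2)))
  have e3 : Y.f3 w' = 1 := hi ((map_f3 _ w').trans ((f3_congr fun u hu =>
    e u (Nd.ok_mono (by norm_num) (by norm_num) le_rfl hu)).trans (Prod.ext h3 k3)))
  have kl := U.ker_le (σ := σ.comp s) (N := zpowers (Y.f1 w')) (fun u hu => (congrArg (fun p => σ p.1) (e u hu)).trans (m u))
    g' (hw'.map _) (mem_zpowers _) (e2 ▸ one_mem _) (e3 ▸ one_mem _)
  have hs : Function.Bijective s := ⟨(injective_iff_map_eq_one s).2 fun g hg => by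
      obtain ⟨j, rfl⟩ := kl (show σ (s g) = 1 by rw [hg, map_one])
      have q := hw'.f1_sq le_rfl
      rcases Int.even_or_odd' j with ⟨i, rfl | rfl⟩ <;> simp only [zpow_add, zpow_mul, zpow_ofNat, sq, q, one_zpow] at hg ⊢
      exact absurd (e1.symm.trans (by simpa using hg)) h1, MonoidHom.range_eq_top.1 (by rw [← MonoidHom.map_range, range_subtype, map_gen]; exact hg)⟩
  refine ⟨((MonoidHom.snd G H).comp (gen 3 3 3 w).subtype).comp (MulEquiv.ofBijective s hs).symm.toMonoidHom,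
    fun u hu => ?_⟩
  exact congrArg (fun x : gen 3 3 3 w => x.1.2)
    ((MulEquiv.ofBijective s hs).symm_apply_eq.2 rfl : (MulEquiv.ofBijective s hs).symm (y u) = ⟨w u, mem_gen hu⟩)

end UN

/-- the cover by a four-group -/
theorem lowD_four (hT : MonS.Y333Iso.{u} T) (h : YS 3 3 3 y) (h1 : f1 y ≠ 1) (h2 : f2 y ≠ 1) (h12 : f1 y ≠ f2 y)
    (h3 : f3 y = 1) (hg : gen 3 3 3 y = ⊤) : ∃ τ : G →* T, Cfsg.IsStemExtension τ ∧ τ.ker = closure {f1 y, f2 y} ∧
      Nat.card τ.ker = 4 := by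
  have c1 := fun g => Cov.comm_f1 h le_rfl le_rfl le_rfl (hg.ge (mem_top g))
  have c2 := fun g => Cov.comm_f2 h le_rfl le_rfl le_rfl (hg.ge (mem_top g))
  have hc : closure {f1 y, f2 y} ≤ center G := (closure_le _).2 (by
    rintro _ (rfl | rfl)
    exacts [mem_center_iff.2 fun g => (c1 g).symm, mem_center_iff.2 fun g => (c2 g).symm])
  have := normal_of_central hc
  have hp := MonS.perfect333 h.toYC h3 hg
  have m1 : f1 y ∈ closure {f1 y, f2 y} := subset_closure (by simp)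
  obtain ⟨e⟩ := (hT _ _ (h.map (QuotientGroup.mk' (closure {f1 y, f2 y})))
    ((map_f1 _ y).symm.trans ((QuotientGroup.eq_one_iff _).2 m1))
    ((map_f2 _ y).symm.trans ((QuotientGroup.eq_one_iff _).2 (subset_closure (by simp)))) (by rw [← map_f3, h3, map_one])
    (Cov.gen_map_top (QuotientGroup.mk'_surjective _) hg)).resolve_left fun e => MonS.not_compl hp hc
      (fun e => h1 (by simpa [e] using m1)) ⊥ (isComplement'_bot_right.2 (index_eq_one.1 e))
  have k : (e.toMonoidHom.comp (QuotientGroup.mk' _)).ker = closure {f1 y, f2 y} := Subgroup.ext fun x => by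
    simp [MonoidHom.mem_ker]
  refine ⟨_, ⟨e.surjective.comp (QuotientGroup.mk'_surjective _), k.le.trans hc, hp ▸ le_top⟩, k, ?_⟩
  rw [k]
  exact (Invol.isKleinFour_four (orderOf_eq_prime ((sq _).trans (h.f1_sq le_rfl)) h1)
    (orderOf_eq_prime ((sq _).trans (h.f2_sq le_rfl)) h2) h12 (c1 _)).card_four

end CfsgLib.Y333
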