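import Mathlib
import Cfsg.Agent.Lib.Y333.Univ
import Cfsg.Agent.Lib.Y333.Final
import Cfsg.Agent.Lib.TwMult.E6D
import Cfsg.Agent.Lib.Mon.Ym
import Cfsg.Agent.Lib.MonK.Dce

/-!
# The Schur multiplier of `²E₆(2)`
-/

set_option autoImplicit false

namespace CfsgLib.Y333

open Cfsg.Lie CfsgLib.Mon CfsgLib.Mon.Y CfsgLib.Mon.Cov CfsgLib.Schur CfsgLib.MultC

theorem exists_four : ∃ (G : Type) (_ : Group G) (y : Nd → G), YS 3 3 3 y ∧ f1 y ≠ 1 ∧ f2 y ≠ 1 ∧ f1 y ≠ f2 y ∧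
    f3 y = 1 ∧ gen 3 3 3 y = ⊤ := by
  have h := MonK.ms_MU
  obtain ⟨m, Y⟩ : ∃ m, YM πM m := ⟨_, Ym.ym h.am⟩
  obtain ⟨y, e⟩ := exists_res (le_refl (gen 3 3 3 m))
  have hi := (gen 3 3 3 m).subtype_injective
  have e1 : (f1 y).1 = πM t1M := ((map_f1 (gen 3 3 3 m).subtype y).trans
    (f1_congr fun u hu => e u (Nd.ok_mono le_rfl (by norm_num) (by norm_num) hu))).trans Y.e1
  have e2 : (f2 y).1 = πM tK := ((map_f2 (gen 3 3 3 m).subtype y).trans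
    (f2_congr fun u hu => e u (Nd.ok_mono (by norm_num) le_rfl (by norm_num) hu))).trans Y.e2
  exact ⟨_, _, y, ys_of_inj hi (Y.ys.mono (by norm_num) (by norm_num) le_rfl) e,
    fun k => tK_facts.2.1 ((map_eq_one_iff _ h.inj).1 (e1.symm.trans (congrArg Subtype.val k))),
    fun k => tK_facts.1 ((map_eq_one_iff _ h.inj).1 (e2.symm.trans (congrArg Subtype.val k))),
    fun k => tK_facts.2.2 (h.inj (e2.symm.trans ((congrArg Subtype.val k).symm.trans e1))),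
    hi (((map_f3 _ y).trans (f3_congr fun u hu => e u (Nd.ok_mono (by norm_num) (by norm_num) le_rfl hu))).trans Y.e3),
    gen_res_top e⟩

variable {K : Type*} [Field K] [Fintype K] (hK : Fintype.card K = 4)
include hK

theorem exists_un.{v} : ∃ n : Nd → twistedE6 K 2, UN.{v} n :=
  let ⟨n, a, b, c, d, e, f⟩ := exists_nodes hK
  ⟨n, a, b, c, d, e, f⟩

theorem multT : Cfsg.HasSchurMultiplier (twistedE6 K 2) (Multiplicative (ZMod 3 × ZMod 2 × ZMod 2)) := by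
  obtain ⟨F, _, _, hF⟩ := Comput.exists_field_card 2 2 two_ne_zero
  obtain ⟨n, U⟩ := exists_un.{_, 0} hF
  obtain ⟨e⟩ := (y333Iso hK _ n U.ys U.f1 U.f2 U.f3 U.top).resolve_left (by rw [cardT hF]; norm_num)
  refine mult_congr_left ?_ e
  obtain ⟨φ, hφ⟩ := Twist.exists_frob (q := 2) (d := 2) Nat.prime_two.isPrimePow hF
  obtain ⟨G, _, y, h, h1, h2, h12, h3, hg⟩ := exists_four
  obtain ⟨τ, t1, -, t2⟩ := lowD_four (y333Iso hF) h h1 h2 h12 h3 hg
  obtain ⟨E, _, ρ, r1, r2⟩ := ((TwMult.lowD_E6 hφ hF dvd_rfl).mul (b := 4)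
    ⟨G, _, τ, centralExt_of_stem t1, by rw [stemKer_eq_ker_of_stem t1, t2]⟩ (by norm_num)).low
  exact mult_of_bounds (fun Γ _ _ σ hσ => U.upper hσ) r1 (by simpa using r2)

end CfsgLib.Y333
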